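import Cfsg.Agent.H7.Suz.E
import Cfsg.Agent.H7.Suz.P

set_option autoImplicit false
set_option maxRecDepth 100000
set_option Elab.async false

namespace CfsgH7.Suz

open Cfsg

def L : List (ℕ × ℕ × List ℕ) := [(1, 416, [0x50001, 0x40001, 0x10001, 0x1, 0x30001]), (4, 100, [0x23010004, 0x4530103540009]), (12, 36, [0x1, 0x103230453014203510011]), (43, 7, [0x230532310141032010354101401001b]), (1466, 2, [0x31032310234101432013230130019]), (23, 3, [0x30102323201410323014010320001a]), (5, 2, [0x3010232324105323010320410323014520021]), (2, 2, [0x310232530132014103153235010323540021])]

theorem stab : P.W.clL HL = MulAction.stabilizer Spor.Suz (P.W.pt 0) :=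
  rk.eq_stab' rk.le_stab (A.cl_top _ P.code_lt)
    (E7.enum _ _ _ r7 (P.S_mem invOk (by decide +kernel))).1

theorem cl6 : cl (A.gen Spor.Suz.extra) 6 = MulAction.stabilizer Spor.Suz (P.W.pt 0) := by
  rw [← stab, ← P.cl_eq (by decide), ← clL_range]; rfl

theorem cb : Nat.card Spor.Suz = P.W.N * 251596800 ∧
    Nat.card (MulAction.stabilizer Spor.Suz (P.W.pt 0)) = 251596800 ∧
      P.W.Base ⊤ (0 :: L.map Prod.fst) :=
  rk.card_base (j := 8) (cl6 ▸ b6) (by decide +kernel)

/-- the Suzuki group on 1782 points -/
noncomputable def W : WX Spor.Suz (Pts P.phi) := P.WX invOk [0, 1, 4, 12, 43, 1466, 23, 5, 2] cb.2.2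

theorem card : Nat.card Spor.Suz = 448345497600 := cb.1

theorem coatom : IsCoatom (MulAction.stabilizer Spor.Suz (W.pt 0)) :=
  rk.coatom (by decide) (by decide +kernel)

theorem simple : IsSimpleGroup Spor.Suz :=
  W.simple (p := 11) (u := (.w 0x64512030007)) (L := [(0, [((.w 0x64512034064512030464512034064512030406451203406451203046451203406451203040645120340645120304645120340645120304006f), none), ((.w 0x35410321036203523230130103205323503200025), none), ((.w 0x64512034064512030464512034064512030406451203406451203046451203406451203040645120340645120304645120340645120304006f), none), ((.w 0x35410321036203523230130103205323503200025), none)]), (3, [((.w 0x30002), some (.w 0x1))]), (2, [((.w 0x32320004), some (.w 0x30001))]), (5, [((.w 0x350002), some (.w 0x30001))]), (6, [((.w 0x360002), some (.w 0x30001))]), (1, [((.w 0x6532163014010363501410532350103210410132353014131010353201304103230141032301032323010410323014102323201030069), none), ((.w 0x6532163014010363501410532350103210410132353014131010353201304103230141032301032323010410323014102323201035325006d), none), ((.w 0x6532163014010363501410532350103210410132353014131010353201304103230141032301032323010410323014102323201030069), none), ((.w 0x6532163014010363501410532350103210410132353014131010353201304103230141032301032323010410323014102323201035325006d),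 none), ((.w 0x6532163014010363501410532350103210410132353014131010353201304103230141032301032323010410323014102323201030069), none), ((.w 0x6532163014010363501410532350103210410132353014131010353201304103230141032301032323010410323014102323201035325006d), none), ((.w 0x6532163014010363501410532350103210410132353014131010353201304103230141032301032323010410323014102323201030069), none), ((.w 0x6532163014010363501410532350103210410132353014131010353201304103230141032301032323010410323014102323201035325006d), none), ((.w 0x6532163014010363501410532350103210410132353014131010353201304103230141032301032323010410323014102323201030069), none), ((.w 0x6532163014010363501410532350103210410132353014131010353201304103230141032301032323010410323014102323201035325006d), none)]), (4, [((.w 0x140002), some (.w 0x10001))]), (7, [((.w 0x0), some (.w 0x301010005))]), (8, [((.w 0x0), some (.w 0x30101301013010130101301014001a))])])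
    rk.trans coatom cb.2.1 (by decide +kernel)

end CfsgH7.Suz
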